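import Cfsg.Agent.Lib.LargeFischer.MaxAb
import Cfsg.Agent.Lib.LargeFischer.TripleCover

/-!
# Groups of large Fischer type: the centraliser of an element of order three over `n`
-/

set_option autoImplicit false
set_option linter.unusedSectionVars false

namespace CfsgLib.LargeFischer

open Subgroup QuadraticMap
open CfsgLib.Schur.Tails.UFour (H4)

namespace Core

variable {V : Type*} [AddCommGroup V] [Module (ZMod 2) V] [Finite V]
  {K : Type*} [Group K] [Finite K] [DistribMulAction K V]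
  {q : QuadraticForm (ZMod 2) V} {n : K} {M : Subgroup K} {φ : ↥M →* ↥H4} (c : Core q n M φ) {s : V}
  (hs : Central q K s) {E : Subgroup K} {D : AddSubgroup V} (hd : CentData q s E D)

include c hs hd

/-- The stabiliser contains a group of the second class. -/
theorem exists_other_in_stab : ∃ A : Subgroup K, A ≤ MulAction.stabilizer K s ⊓ M ∧
    Cfsg.IsElementaryAbelian 2 A ∧ Nat.card ↥A = 16 ∧
      U43.fixCount ((A.subgroupOf M).map φ) ≠ U43.fixCount (((E ⊓ M).subgroupOf M).map φ) := by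
  classical
  haveI := Fact.mk Nat.prime_two
  obtain ⟨A₀, hA₀M, hA₀, h16, hcount⟩ := c.exists_other_class (A₀ := E ⊓ M)
  set X : Subgroup ↥M := (MulAction.stabilizer K s ⊓ M).subgroupOf M
  have hX : Nat.card ↥X = 5760 :=
    (Nat.card_congr (subgroupOfEquivOfLe inf_le_right).toEquiv).trans (c.central_facts hs).2.1
  obtain ⟨P₁, hP₁⟩ := Sylow.exists_subgroup_card_pow_prime 2 (G := ↥X) (n := 7) (by rw [hX]; norm_num)
  have hP₁c : Nat.card ↥(P₁.map X.subtype) = 2 ^ 7 := by rw [card_map_of_injective (subtype_injective _), hP₁]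
  obtain ⟨P₂, hP₂⟩ := (IsPGroup.of_card hP₁c).exists_le_sylow
  have hP₂eq : P₁.map X.subtype = (P₂ : Subgroup ↥M) := by
    refine eq_of_le_of_card_ge hP₂ ?_
    obtain ⟨j, hj⟩ := IsPGroup.iff_card.1 P₂.2
    have hd2 := Subgroup.card_subgroup_dvd_card (P₂ : Subgroup ↥M)
    rw [hj, c.card_M] at hd2
    have hj7 : j ≤ 7 := by
      by_contra h
      have h8 : 2 ^ 8 ∣ 9797760 := (pow_dvd_pow 2 (show 8 ≤ j by omega)).trans hd2
      exact absurd h8 (by norm_num)
    rw [hj, hP₁c]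
    exact Nat.pow_le_pow_right (by norm_num) hj7
  have hA₀2 : IsPGroup 2 ↥(A₀.subgroupOf M) :=
    IsPGroup.of_card (n := 4) (by rw [Nat.card_congr (subgroupOfEquivOfLe hA₀M).toEquiv, h16]; norm_num)
  obtain ⟨P₃, hP₃⟩ := hA₀2.exists_le_sylow
  obtain ⟨w, hw⟩ := MulAction.exists_smul_eq ↥M P₃ P₂
  set A : Subgroup K := A₀.map (MulAut.conj (w : K)).toMonoidHom with hAdef
  have hconj : ∀ a (ha : a ∈ A₀), (w : K) * a * (w : K)⁻¹ ∈ MulAction.stabilizer K s ⊓ M := by
    intro a ha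
    have h1 : w * ⟨a, hA₀M ha⟩ * w⁻¹ ∈ (P₂ : Subgroup ↥M) := by
      rw [← hw]
      exact Subgroup.smul_mem_pointwise_smul (⟨a, hA₀M ha⟩ : ↥M) (MulAut.conj w) (P₃ : Subgroup _)
        (hP₃ (show (⟨a, hA₀M ha⟩ : ↥M) ∈ A₀.subgroupOf M from ha))
    rw [← hP₂eq] at h1
    exact Subgroup.map_subtype_le P₁ h1
  have hAle : A ≤ MulAction.stabilizer K s ⊓ M := by
    rintro _ ⟨a, ha, rfl⟩
    exact hconj a ha
  have hA : Cfsg.IsElementaryAbelian 2 A := by
    refine ⟨⟨⟨?_⟩⟩, ?_⟩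
    · rintro ⟨_, a, ha, rfl⟩ ⟨_, b, hb, rfl⟩
      refine Subtype.ext ?_
      show MulAut.conj (w : K) a * MulAut.conj (w : K) b = MulAut.conj (w : K) b * MulAut.conj (w : K) a
      rw [← map_mul, ← map_mul]
      exact congrArg _ (congrArg Subtype.val (hA₀.1.is_comm.comm (⟨a, ha⟩ : ↥A₀) ⟨b, hb⟩))
    · rintro _ ⟨a, ha, rfl⟩
      rw [← map_pow, hA₀.2 a ha, map_one]
  refine ⟨A, hAle, hA, by rw [hAdef, card_map_of_injective (MulEquiv.injective _), h16], ?_⟩
  have e : (A.subgroupOf M).map φ = ((A₀.subgroupOf M).map φ).map (MulAut.conj (φ w)).toMonoidHom := by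
    ext σ
    constructor
    · rintro ⟨⟨a, haM⟩, ⟨b, hb, hab⟩, rfl⟩
      refine ⟨φ ⟨b, hA₀M hb⟩, ⟨⟨b, hA₀M hb⟩, hb, rfl⟩, ?_⟩
      show φ w * φ ⟨b, hA₀M hb⟩ * (φ w)⁻¹ = _
      rw [← map_inv, ← map_mul, ← map_mul]
      exact congrArg φ (Subtype.ext hab)
    · rintro ⟨_, ⟨b, hb, rfl⟩, rfl⟩
      refine ⟨w * b * w⁻¹, ⟨(b : K), hb, rfl⟩, ?_⟩
      simp
  rw [e, U43.fixCount_map]
  exact hcount

end Core

namespace Model

variable {G : Type*} [Group G] [Finite G] {z : G} {Q : Subgroup (centralizer ({z} : Set G))} [Q.Normal]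
  {V : Type*} [AddCommGroup V] [Module (ZMod 2) V] [DistribMulAction ((centralizer ({z} : Set G)) ⧸ Q) V] [Finite V]
  {q : QuadraticForm (ZMod 2) V} {π : ↥Q → V} {n : (centralizer ({z} : Set G)) ⧸ Q}
  {M : Subgroup ((centralizer ({z} : Set G)) ⧸ Q)} {φ : ↥M →* ↥H4} (m : Model z Q q π n M φ)
  (hF : Cfsg.IsOfLargeFischerTypeAt z Q)

include m hF

/-- An element of order three over `n`. -/
theorem exists_three_lift : ∃ o : (centralizer ({z} : Set G)), o ^ 3 = 1 ∧ QuotientGroup.mk' Q o = n := by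
  obtain ⟨x0, rfl⟩ := QuotientGroup.mk'_surjective Q n
  have h3 : x0 ^ 3 ∈ Q := by
    rw [← QuotientGroup.eq_one_iff, QuotientGroup.mk_pow, ← m.core.ordn]
    exact pow_orderOf_eq_one _
  have h := pow_card_eq_one' (x := (⟨_, h3⟩ : ↥Q))
  rw [hF.1.2.2.2.1] at h
  have h' : (x0 ^ 3) ^ (2 ^ 13) = 1 := congrArg Subtype.val h
  refine ⟨x0 ^ 16384, ?_, ?_⟩
  · rw [← pow_mul, show 16384 * 3 = (3 * 2 ^ 13) * 2 by norm_num, pow_mul, pow_mul, h', one_pow]
  · rw [map_pow, ← pow_mod_orderOf, m.core.ordn, show 16384 % 3 = 1 by norm_num, pow_one]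

/-- Elements of `M` lift to elements commuting with the element of order three. -/
theorem lift_commute {o : (centralizer ({z} : Set G))} (ho3 : o ^ 3 = 1) (hon : QuotientGroup.mk' Q o = n) {k : (centralizer ({z} : Set G)) ⧸ Q} (hk : k ∈ M) :
    ∃ c : (centralizer ({z} : Set G)), QuotientGroup.mk' Q c = k ∧ c * o = o * c := by
  obtain ⟨c0, rfl⟩ := QuotientGroup.mk'_surjective Q k
  obtain ⟨zQ, hzQ, -, -, hzc, hz1⟩ := m.exists_zQ hF
  obtain ⟨x0, hx0, hne0⟩ := m.exists_central hF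
  have hcen := m.central_of_isConj hF hx0 hne0
  have hw : o⁻¹ * (c0 * o * c0⁻¹) ∈ Q := by
    rw [← QuotientGroup.eq_one_iff]
    show QuotientGroup.mk' Q _ = 1
    rw [map_mul, map_mul, map_mul, map_inv, map_inv, hon, m.core.commute hk, mul_inv_cancel_right, inv_mul_cancel]
  set w : ↥Q := ⟨_, hw⟩ with hwdef
  obtain ⟨p, hp⟩ := m.surj (n • n • π w)
  set r : ↥Q := MulAut.conjNormal o⁻¹ p * p⁻¹ with hr
  have hrval : (r : (centralizer ({z} : Set G))) = o⁻¹ * (p : (centralizer ({z} : Set G))) * o * (p : (centralizer ({z} : Set G)))⁻¹ := by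
    rw [hr, Subgroup.coe_mul, MulAut.conjNormal_apply, inv_inv, Subgroup.coe_inv]
  have hπ : π r = π w := by
    rw [hr, m.pi_mul, m.pi_inv, ← m.equiv, QuotientGroup.mk_inv, show (QuotientGroup.mk o : (centralizer ({z} : Set G)) ⧸ Q) = n from hon, hp,
      inv_smul_smul, m.core.n_quad hcen (π w), add_comm (π w), ← add_assoc, vadd_self, zero_add]
  rcases m.pi_eq_cases hF hzQ hπ with e | e
  · refine ⟨(p : (centralizer ({z} : Set G)))⁻¹ * c0, ?_, ?_⟩
    · rw [map_mul, map_inv, QuotientGroup.mk'_apply Q (p : (centralizer ({z} : Set G))), (QuotientGroup.eq_one_iff _).2 p.2, inv_one, one_mul]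
    · have e1 : c0 * o * c0⁻¹ = (p : (centralizer ({z} : Set G))) * o * (p : (centralizer ({z} : Set G)))⁻¹ := by
        calc c0 * o * c0⁻¹ = o * (w : (centralizer ({z} : Set G))) := by rw [hwdef]; group
          _ = _ := by rw [e, hrval]; group
      calc (p : (centralizer ({z} : Set G)))⁻¹ * c0 * o = (p : (centralizer ({z} : Set G)))⁻¹ * (c0 * o * c0⁻¹) * c0 := by group
        _ = o * ((p : (centralizer ({z} : Set G)))⁻¹ * c0) := by rw [e1]; group
  · exfalso
    have e1 : c0 * o * c0⁻¹ = (p : (centralizer ({z} : Set G))) * o * (p : (centralizer ({z} : Set G)))⁻¹ * (zQ : (centralizer ({z} : Set G))) := by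
      calc c0 * o * c0⁻¹ = o * (w : (centralizer ({z} : Set G))) := by rw [hwdef]; group
        _ = _ := by rw [e, hrval]; group
    have e2 := congrArg (· ^ 3) e1
    simp only [conj_pow, ho3, mul_one, mul_inv_cancel] at e2
    rw [Commute.mul_pow (show Commute ((p : (centralizer ({z} : Set G))) * o * (p : (centralizer ({z} : Set G)))⁻¹) (zQ : (centralizer ({z} : Set G))) from hzc _), conj_pow, ho3, mul_one,
      mul_inv_cancel, one_mul] at e2
    obtain ⟨zQ', hzQ', -, hzz, -, -⟩ := m.exists_zQ hF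
    have hzz' : (zQ : (centralizer ({z} : Set G))) * (zQ : (centralizer ({z} : Set G))) = 1 := by
      have h1 : (zQ' : (centralizer ({z} : Set G))) * (zQ' : (centralizer ({z} : Set G))) = 1 := congrArg Subtype.val hzz
      rwa [show zQ' = zQ from Subtype.ext (Subtype.ext (hzQ'.trans hzQ.symm))] at h1
    rw [pow_succ, pow_two, hzz', one_mul] at e2
    exact hz1 e2.symm

end Model

end CfsgLib.LargeFischer
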