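import Cfsg.Agent.Lib.LargeFischer.SixCover.Lifts
import Cfsg.Agent.Lib.LargeFischer.ThreeTwelve.Config

/-!
# Groups of large Fischer type: the double cover in the centraliser of `o` does not split
-/

set_option autoImplicit false
set_option linter.unusedSectionVars false
set_option maxHeartbeats 1600000

namespace CfsgLib.LargeFischer.SixCover

open Subgroup QuadraticMap CfsgLib.LargeExtra CfsgLib.LargeFischer.ThreeTwelve
open CfsgLib.Schur.Tails.UFour (H4)

variable {G : Type*} [Group G] [Finite G] {z : G} {Q : Subgroup (centralizer ({z} : Set G))} [Q.Normal]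
  {V : Type*} [AddCommGroup V] [Module (ZMod 2) V] [DistribMulAction ((centralizer ({z} : Set G)) ⧸ Q) V] [Finite V]
  {q : QuadraticForm (ZMod 2) V} {π : ↥Q → V} {n : (centralizer ({z} : Set G)) ⧸ Q}
  {M : Subgroup ((centralizer ({z} : Set G)) ⧸ Q)} {φ : ↥M →* ↥H4}

/-- A configuration compatible with a given element of order three. -/
theorem exists_cfg_fixed (hF : Cfsg.IsOfLargeFischerTypeAt z Q) (m : Model z Q q π n M φ) {o : (centralizer ({z} : Set G))}
    (ho3 : o ^ 3 = 1) (hon : QuotientGroup.mk' Q o = n) :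
    ∃ g x y E D, Cfg Q q π n M φ g x y E D ∧ val y = (o : G) * val x * (o : G)⁻¹ ∧
      val x * ((o : G) * val x * (o : G)⁻¹) * ((o : G) * ((o : G) * val x * (o : G)⁻¹) * (o : G)⁻¹) = 1 := by
  obtain ⟨a0, ha0, hne⟩ := m.exists_central hF
  obtain ⟨zQ, hzQ, hzπ, hzz, hzc, hz1⟩ := m.exists_zQ hF
  have hcen := m.central_of_isConj hF ha0 hne
  have hzG : z * z = 1 := by rw [← pow_two, ← hF.1.1, pow_orderOf_eq_one]
  have hzcG : (o : G) * z * (o : G)⁻¹ = z := by rw [mem_centralizer_singleton_iff.1 o.2, mul_inv_cancel_right]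
  let p : ↥Q → ↥Q := fun a => a * MulAut.conjNormal o a * MulAut.conjNormal o (MulAut.conjNormal o a)
  have hp : ∀ a : ↥Q, val (p a) =
      val a * ((o : G) * val a * (o : G)⁻¹) * ((o : G) * ((o : G) * val a * (o : G)⁻¹) * (o : G)⁻¹) := fun a => by
    simp only [p, val, Subgroup.coe_mul, MulAut.conjNormal_apply, Subgroup.coe_inv]
  have hπ : π (p a0) = 0 := by
    have hon' : (QuotientGroup.mk o : (centralizer ({z} : Set G)) ⧸ Q) = n := hon
    simp only [p, m.pi_mul, ← m.equiv, hon']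
    rw [m.core.n_quad hcen, add_assoc, add_left_comm (n • π a0), vadd_self, add_zero, vadd_self]
  obtain ⟨a, ha, hane, hπa, hpa⟩ : ∃ a : ↥Q, IsConj z (val a) ∧ val a ≠ z ∧ π a = π a0 ∧ val (p a) = 1 := by
    rcases (m.ker _).1 hπ with e | e
    · exact ⟨a0, ha0, hne, rfl, e⟩
    · have h1 : val a0 ≠ 1 := fun h => hcen.ne ((m.ker _).2 (.inl h))
      obtain ⟨b, hb⟩ := m.exists_swap hF (x := a0) h1 hne
      have hz1' : z ≠ 1 := fun h => hz1 (Subtype.ext (hzQ.trans h))
      refine ⟨a0 * zQ, ?_, ?_, by rw [m.pi_mul, hzπ, add_zero], ?_⟩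
      · refine ha0.trans (isConj_iff.2 ⟨val b, ?_⟩)
        show val b * val a0 * (val b)⁻¹ = val a0 * val zQ
        rw [show val zQ = z from hzQ]
        exact hb
      · show val a0 * val zQ ≠ z
        rw [show val zQ = z from hzQ]
        exact fun h => h1 (mul_eq_right.1 h)
      · have hz' : val zQ = z := hzQ
        have hcomm : ∀ w : (centralizer ({z} : Set G)), (w : G) * z = z * (w : G) := fun w => mem_centralizer_singleton_iff.1 w.2
        have e' : val a0 * ((o : G) * val a0 * (o : G)⁻¹) * ((o : G) * ((o : G) * val a0 * (o : G)⁻¹) * (o : G)⁻¹) = z :=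
          (hp a0).symm.trans e
        rw [hp, show val (a0 * zQ) = val a0 * z from congrArg (val a0 * ·) hz']
        have h2 : (o : G) * (val a0 * z) * (o : G)⁻¹ = (o : G) * val a0 * (o : G)⁻¹ * z := by
          calc _ = (o : G) * val a0 * (o : G)⁻¹ * ((o : G) * z * (o : G)⁻¹) := by group
            _ = _ := by rw [hzcG]
        have h3 : (o : G) * ((o : G) * val a0 * (o : G)⁻¹ * z) * (o : G)⁻¹ =
            (o : G) * ((o : G) * val a0 * (o : G)⁻¹) * (o : G)⁻¹ * z := by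
          calc _ = (o : G) * ((o : G) * val a0 * (o : G)⁻¹) * (o : G)⁻¹ * ((o : G) * z * (o : G)⁻¹) := by group
            _ = _ := by rw [hzcG]
        rw [h2, h3]
        set A := val a0
        set B := (o : G) * A * (o : G)⁻¹
        set C := (o : G) * B * (o : G)⁻¹
        have hBz : B * z = z * B := hcomm (o * (a0 : (centralizer ({z} : Set G))) * o⁻¹)
        have hCz : C * z = z * C := hcomm (o * (o * (a0 : (centralizer ({z} : Set G))) * o⁻¹) * o⁻¹)
        calc A * z * (B * z) * (C * z) = A * B * (z * z) * (C * z) := by rw [mul_assoc A z, ← mul_assoc z B, ← hBz]; group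
          _ = A * B * C * z := by rw [hzG]; group
          _ = 1 := by rw [e', hzG]
  obtain ⟨g, hg⟩ := isConj_iff.1 ha
  have h := pairHyp_of hF (g := g) (hg ▸ ⟨_, a.2, rfl⟩) (hg ▸ hane)
  obtain ⟨h1, D, hd, -, hD⟩ := m.centData_full h hF.1.2.2.2.1 (x := a) hg.symm
  have hc : Central q ((centralizer ({z} : Set G)) ⧸ Q) (π a) := ⟨h1, ⟨_, D, hd⟩⟩
  obtain ⟨-, hns, -⟩ := m.core.fixed_line hc hd
  obtain ⟨y0, hy0, hy0'⟩ := (hD _).1 hns
  have c0 : Cfg Q q π n M φ g a y0 _ D := ⟨m, h, hg.symm, hc, hd, rfl, hD, hy0, hy0'⟩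
  have hy' : π (MulAut.conjNormal o a) = n • π a := by rw [← m.equiv]; exact congrArg (· • π a) hon
  refine ⟨g, a, MulAut.conjNormal o a, _, D, ⟨m, h, hg.symm, hc, hd, rfl, hD, (c0.D_mem (hy' ▸ hns)).2, hy'⟩,
    by simp [val, MulAut.conjNormal_apply], (hp a).symm.trans hpa⟩

/-- A subgroup of index two of the centraliser of `o` contains the central involution. -/
theorem z_mem_index_two (hF : Cfsg.IsOfLargeFischerTypeAt z Q) (m : Model z Q q π n M φ) {o : (centralizer ({z} : Set G))}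
    (ho3 : o ^ 3 = 1) (hon : QuotientGroup.mk' Q o = n) {zQ : ↥Q} (hzQ : ((zQ : (centralizer ({z} : Set G))) : G) = z)
    {T : Subgroup (centralizer ({z} : Set G))} (hT : T ≤ centralizer ({o} : Set (centralizer ({z} : Set G))))
    (hidx : (T.subgroupOf (centralizer ({o} : Set (centralizer ({z} : Set G))))).index = 2) : (zQ : (centralizer ({z} : Set G))) ∈ T := by
  classical
  by_contra hzT
  obtain ⟨g, x, y, E, D, c, hyo, hprod⟩ := exists_cfg_fixed hF m ho3 hon
  have hO : (o : G) * (o : G) * (o : G) = 1 := by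
    have := congrArg Subtype.val ho3
    simpa [pow_succ] using this
  set s := val x with hsdef
  set t := val y with htdef
  set u := (o : G) * t * (o : G)⁻¹ with hudef
  have hyt : t = (o : G) * s * (o : G)⁻¹ := hyo
  have hstu : s * t * u = 1 := by rw [hudef, hyt]; exact hprod
  have hoz : (o : G) * z = z * (o : G) := c.comm_z o
  have hzz : z * z = 1 := c.hp.zz
  obtain ⟨hzV, hsV, htV⟩ := c.mem_zxy
  have hab : ∀ {v w : G}, v ∈ Qz Q ⊓ Qs Q g → w ∈ Qz Q ⊓ Qs Q g → v * w = w * v := fun hv hw => c.hp.E_comm _ hv _ hw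
  have hst : s * t = t * s := hab (c.V8_le hsV) (c.V8_le htV)
  have hss : s * s = 1 := c.hp.E_sq _ (c.V8_le hsV)
  have htt : t * t = 1 := c.hp.E_sq _ (c.V8_le htV)
  have hu : u = s * t := by
    calc u = (t * (s * s) * t) * u := by rw [hss, mul_one, htt, one_mul]
      _ = t * s * (s * t * u) := by group
      _ = s * t := by rw [hstu, mul_one, hst]
  -- conjugates of `Q`
  have hQs_eq : ∀ {g₁ g₂ : G}, g₁ * z * g₁⁻¹ = g₂ * z * g₂⁻¹ → Qs Q g₁ ≤ Qs Q g₂ := by
    intro g₁ g₂ e v hv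
    rw [PairHyp.mem_map_iff] at hv ⊢
    have hw : g₂⁻¹ * g₁ ∈ centralizer ({z} : Set G) := mem_centralizer_singleton_iff.2 (by
      calc g₂⁻¹ * g₁ * z = g₂⁻¹ * (g₁ * z * g₁⁻¹) * g₁ := by group
        _ = z * (g₂⁻¹ * g₁) := by rw [e]; group)
    have := (mem_normalizer_iff.1 (c.hp.normal hw) _).1 hv
    rwa [show g₂⁻¹ * g₁ * (g₁⁻¹ * v * g₁) * (g₂⁻¹ * g₁)⁻¹ = g₂⁻¹ * v * g₂ by group] at this
  have hQs_conj : ∀ {g₁ a v : G}, v ∈ Qs Q g₁ → a * v * a⁻¹ ∈ Qs Q (a * g₁) := by
    intro g₁ a v hv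
    rw [PairHyp.mem_map_iff] at hv ⊢
    rwa [show (a * g₁)⁻¹ * (a * v * a⁻¹) * (a * g₁) = g₁⁻¹ * v * g₁ by group]
  have hgz : g * z * g⁻¹ = s := c.hx.symm
  have hogz : ((o : G) * g) * z * ((o : G) * g)⁻¹ = t := by
    rw [hyt, ← hgz]; group
  -- an element moving `z` to `s` and `s` to `t`
  obtain ⟨k, hkz, hks⟩ : ∃ k : G, k * z * k⁻¹ = s ∧ k * s * k⁻¹ = t := by
    obtain ⟨w, hwQ, hwe⟩ := PairHyp.mem_map_iff.1 c.hy
    set w' : ↥Q := ⟨w, hwQ⟩
    have hwe' : val w' = g⁻¹ * t * g := hwe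
    have hconj : IsConj z (val w') := isConj_iff.2 ⟨g⁻¹ * ((o : G) * g), by rw [hwe', ← hogz]; group⟩
    have hne : val w' ≠ z := by
      rw [hwe']
      intro e
      have h1 : t = s := by rw [← hgz, ← e]; group
      have h2 : π y = π x := congrArg π (Subtype.ext (Subtype.ext h1) : y = x)
      rw [c.hy'] at h2
      exact c.mdl.core.smul_n_ne c.cen c.cen.ne h2
    obtain ⟨p, hp⟩ := m.exists_conj hF c.cen.ne (m.core.mem_orbit c.cen (m.central_of_isConj hF hconj hne))
    have hp' : (p : G) * s * (p : G)⁻¹ = g⁻¹ * t * g := (congrArg Subtype.val hp).trans hwe'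
    refine ⟨g * (p : G), ?_, ?_⟩
    · calc g * (p : G) * z * (g * (p : G))⁻¹ = g * ((p : G) * z * (p : G)⁻¹) * g⁻¹ := by group
        _ = s := by rw [c.comm_z p, mul_inv_cancel_right, hgz]
    · calc g * (p : G) * s * (g * (p : G))⁻¹ = g * ((p : G) * s * (p : G)⁻¹) * g⁻¹ := by group
        _ = t := by rw [hp']; group
  -- the transported intersection
  obtain ⟨b, hbQ, hbs⟩ := c.hp.automizer.1
  rw [← c.hx] at hbs
  set P : Subgroup G := Qz Q ⊓ Qs Q g
  set P' : Subgroup G := Qs Q g ⊓ Qs Q ((o : G) * g)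
  have hPzero : ∀ v ∈ P, v ∈ Qs Q (b * g) := by
    intro v hv
    have h1 : b⁻¹ * v * b ∈ Qs Q g := by
      rcases c.hp.comm_cases ((Qz Q).inv_mem hbQ) hv.1 with e | e
      · rw [show b⁻¹ * v * b = (b⁻¹ * v * (b⁻¹)⁻¹ * v⁻¹) * v by group, e, one_mul]
        exact hv.2
      · rw [show b⁻¹ * v * b = (b⁻¹ * v * (b⁻¹)⁻¹ * v⁻¹) * v by group, e]
        exact mul_mem c.z_mem' hv.2
    have := hQs_conj (a := b) h1
    rwa [show b * (b⁻¹ * v * b) * b⁻¹ = v by group] at this
  have hkP : ∀ v ∈ P, k * v * k⁻¹ ∈ P' ∧ k * v * k⁻¹ ∈ Qs Q ((o : G) * ((o : G) * g)) := by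
    intro v hv
    have h0 : k * v * k⁻¹ ∈ Qs Q k := PairHyp.mem_map_iff.2 (by
      rw [show k⁻¹ * (k * v * k⁻¹) * k = v by group]; exact hv.1)
    refine ⟨⟨hQs_eq (hkz.trans hgz.symm) h0, hQs_eq ?_ (hQs_conj (a := k) hv.2)⟩,
      hQs_eq ?_ (hQs_conj (a := k) (hPzero v hv))⟩
    · calc k * g * z * (k * g)⁻¹ = k * (g * z * g⁻¹) * k⁻¹ := by group
        _ = (o : G) * g * z * ((o : G) * g)⁻¹ := by rw [hgz, hks, hogz]
    · calc k * (b * g) * z * (k * (b * g))⁻¹ = k * (b * (g * z * g⁻¹) * b⁻¹) * k⁻¹ := by group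
        _ = (k * z * k⁻¹) * (k * s * k⁻¹) := by rw [hgz, show b * s * b⁻¹ = z * s from hbs]; group
        _ = u := by rw [hkz, hks, hu]
        _ = (o : G) * (((o : G) * g) * z * ((o : G) * g)⁻¹) * (o : G)⁻¹ := by rw [hogz]
        _ = _ := by group
  have hPcard : Nat.card ↥P = 128 := by
    have e : P = (c.pre D).map ((centralizer ({z} : Set G)).subtype.comp Q.subtype) := by
      ext v
      constructor
      · rintro ⟨⟨a, ha, rfl⟩, hv⟩
        exact ⟨⟨a, ha⟩, (c.hD _).2 ⟨⟨a, ha⟩, hv, rfl⟩, rfl⟩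
      · rintro ⟨a, ha, rfl⟩
        exact c.D_mem ha
    obtain ⟨-, hD64, -, -⟩ := c.mdl.core.data_cards c.dat
    rw [e, card_map_of_injective c.inj_val, c.pre_card, hD64]
  have hP'card : Nat.card ↥P' = 128 := by
    refine le_antisymm ?_ ?_
    · -- `P'` is the image of the intersection of `Q` with the conjugate by `k⁻¹ o g`
      have hc : Nat.card ↥(P'.map (MulAut.conj k⁻¹).toMonoidHom) = Nat.card ↥P' :=
        card_map_of_injective (MulEquiv.injective _)
      rw [← hPcard, ← hc]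
      refine Nat.le_of_dvd Nat.card_pos (card_dvd_of_le ?_)
      rintro _ ⟨v, hv, rfl⟩
      show k⁻¹ * v * (k⁻¹)⁻¹ ∈ P
      refine ⟨?_, hQs_eq ?_ (hQs_conj (a := k⁻¹) hv.2)⟩
      · have h1 := hQs_eq (hgz.trans hkz.symm) hv.1
        rw [inv_inv]
        exact PairHyp.mem_map_iff.1 h1
      · calc k⁻¹ * ((o : G) * g) * z * (k⁻¹ * ((o : G) * g))⁻¹ = k⁻¹ * t * k := by rw [← hogz]; group
          _ = g * z * g⁻¹ := by rw [← hks, hgz]; group
    · have hc : Nat.card ↥(P.map (MulAut.conj k).toMonoidHom) = Nat.card ↥P :=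
        card_map_of_injective (MulEquiv.injective _)
      rw [← hPcard, ← hc]
      exact Nat.le_of_dvd Nat.card_pos (card_dvd_of_le fun _ ⟨v, hv, e⟩ => e ▸ (hkP v hv).1)
  have hPP' : P.map (MulAut.conj k).toMonoidHom = P' :=
    eq_of_le_of_card_ge (fun _ ⟨v, hv, e⟩ => e ▸ (hkP v hv).1)
      (by rw [card_map_of_injective (MulEquiv.injective _), hPcard, hP'card])
  have hback : ∀ v ∈ P', k⁻¹ * v * k ∈ P := by
    intro v hv
    rw [← hPP'] at hv
    obtain ⟨v, hv, rfl⟩ := hv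
    show k⁻¹ * (k * v * k⁻¹) * k ∈ P
    rwa [show k⁻¹ * (k * v * k⁻¹) * k = v by group]
  have hP'comm : ∀ v ∈ P', ∀ w ∈ P', v * w = w * v := by
    intro v hv w hw
    calc v * w = k * ((k⁻¹ * v * k) * (k⁻¹ * w * k)) * k⁻¹ := by group
      _ = w * v := by rw [hab (hback v hv) (hback w hw)]; group
  have hP'sq : ∀ v ∈ P', v * v = 1 := fun v hv => by
    calc v * v = k * ((k⁻¹ * v * k) * (k⁻¹ * v * k)) * k⁻¹ := by group
      _ = 1 := by rw [c.hp.E_sq _ (hback v hv), mul_one, mul_inv_cancel]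
  have hzog : z ∈ Qs Q ((o : G) * g) := by
    have := hQs_conj (a := (o : G)) c.z_mem'
    rwa [hoz, mul_inv_cancel_right] at this
  have hzP' : z ∈ P' := ⟨c.z_mem', hzog⟩
  have hsP' : s ∈ P' := hkz ▸ (hkP z ⟨c.hp.z_mem, c.z_mem'⟩).1
  have htP' : t ∈ P' := hks ▸ (hkP s ⟨c.val_mem x, c.x_mem⟩).1
  have hP'z : ∀ v ∈ P', v * z = z * v := fun v hv => hP'comm v hv z hzP'
  -- invariance under `o`
  have hoP' : ∀ v ∈ P', (o : G) * v * (o : G)⁻¹ ∈ P' := by
    have hle : P' ≤ P'.map (MulAut.conj (o : G)).toMonoidHom := by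
      intro v hv
      refine ⟨(o : G)⁻¹ * v * (o : G), ⟨?_, ?_⟩, by show (o : G) * ((o : G)⁻¹ * v * (o : G)) * (o : G)⁻¹ = v; group⟩
      · have := hQs_conj (a := (o : G)⁻¹) hv.2
        rwa [inv_inv, ← mul_assoc, inv_mul_cancel, one_mul] at this
      · obtain ⟨w, hw, rfl⟩ := hPP'.ge hv
        have := hQs_conj (a := (o : G)⁻¹) (hkP w hw).2
        rwa [inv_inv, ← mul_assoc, inv_mul_cancel, one_mul] at this
    have heq := eq_of_le_of_card_ge hle (le_of_eq (card_map_of_injective (MulEquiv.injective _)))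
    exact fun v hv => heq.ge ⟨v, hv, rfl⟩
  -- the transfer to the centraliser of `o`
  let N : G → G := fun v => v * ((o : G) * v * (o : G)⁻¹) * ((o : G) * ((o : G) * v * (o : G)⁻¹) * (o : G)⁻¹)
  have hN1 : N 1 = 1 := by simp [N]
  have hNmul : ∀ v ∈ P', ∀ w ∈ P', N (v * w) = N v * N w := by
    intro v hv w hw
    set v1 := (o : G) * v * (o : G)⁻¹ with hv1
    set v2 := (o : G) * v1 * (o : G)⁻¹ with hv2
    set w1 := (o : G) * w * (o : G)⁻¹ with hw1
    set w2 := (o : G) * w1 * (o : G)⁻¹ with hw2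
    have m1 := hoP' v hv
    have m2 := hoP' _ m1
    have n1 := hoP' w hw
    show v * w * ((o : G) * (v * w) * (o : G)⁻¹) * ((o : G) * ((o : G) * (v * w) * (o : G)⁻¹) * (o : G)⁻¹) =
      v * v1 * v2 * (w * w1 * w2)
    rw [show (o : G) * (v * w) * (o : G)⁻¹ = v1 * w1 by rw [hv1, hw1]; group,
      show (o : G) * (v1 * w1) * (o : G)⁻¹ = v2 * w2 by rw [hv2, hw2]; group]
    have c1 : w * v1 = v1 * w := hP'comm w hw v1 m1
    have c2 : (w * w1) * v2 = v2 * (w * w1) := hP'comm _ (mul_mem hw n1) v2 m2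
    calc v * w * (v1 * w1) * (v2 * w2) = v * (w * v1) * w1 * v2 * w2 := by group
      _ = v * v1 * ((w * w1) * v2) * w2 := by rw [c1]; group
      _ = v * v1 * v2 * (w * w1 * w2) := by rw [c2]; group
  have hNP : ∀ v ∈ P', N v ∈ P' := fun v hv => mul_mem (mul_mem hv (hoP' v hv)) (hoP' _ (hoP' v hv))
  have hNo : ∀ v ∈ P', (o : G) * N v = N v * (o : G) := by
    intro v hv
    have m1 := hoP' v hv
    have m2 := hoP' _ m1
    refine mul_inv_eq_iff_eq_mul.1 ?_
    set v1 := (o : G) * v * (o : G)⁻¹ with hv1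
    set v2 := (o : G) * v1 * (o : G)⁻¹ with hv2
    have h3 : (o : G) * v2 * (o : G)⁻¹ = v := by
      calc _ = ((o : G) * (o : G) * (o : G)) * v * ((o : G) * (o : G) * (o : G))⁻¹ := by rw [hv2, hv1]; group
        _ = v := by rw [hO]; group
    calc (o : G) * (v * v1 * v2) * (o : G)⁻¹ = v1 * v2 * ((o : G) * v2 * (o : G)⁻¹) := by
          rw [show v1 * v2 = ((o : G) * v * (o : G)⁻¹) * ((o : G) * v1 * (o : G)⁻¹) by rw [← hv1, ← hv2]]; group
      _ = v * v1 * v2 := by rw [h3, hP'comm _ (mul_mem m1 m2) v hv]; group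
  have hNC : ∀ v ∈ P', ∀ (hc : N v ∈ centralizer ({z} : Set G)), (⟨N v, hc⟩ : (centralizer ({z} : Set G))) ∈ centralizer ({o} : Set (centralizer ({z} : Set G))) :=
    fun v hv hc => mem_centralizer_singleton_iff.2 (Subtype.ext (hNo v hv).symm)
  let TG : Subgroup G := T.map (centralizer ({z} : Set G)).subtype
  let X : Subgroup G :=
    { carrier := {v | v ∈ P' ∧ N v ∈ TG}
      one_mem' := ⟨P'.one_mem, by rw [hN1]; exact TG.one_mem⟩
      mul_mem' := fun {v w} hv hw => ⟨mul_mem hv.1 hw.1, by rw [hNmul v hv.1 w hw.1]; exact mul_mem hv.2 hw.2⟩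
      inv_mem' := fun {v} hv => by
        rw [show v⁻¹ = v from inv_eq_of_mul_eq_one_left (hP'sq v hv.1)]; exact hv }
  have hXiff : ∀ v, v ∈ X ↔ v ∈ P' ∧ N v ∈ TG := fun v => Iff.rfl
  have hNz : N z = z := by
    show z * ((o : G) * z * (o : G)⁻¹) * ((o : G) * ((o : G) * z * (o : G)⁻¹) * (o : G)⁻¹) = z
    rw [hoz, mul_inv_cancel_right, hoz, mul_inv_cancel_right, hzz, one_mul]
  have hzTG : z ∉ TG := by
    rintro ⟨w, hw, e⟩
    have he : (zQ : (centralizer ({z} : Set G))) = w := Subtype.ext (hzQ.trans e.symm)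
    exact hzT (he ▸ hw)
  have hzX : z ∉ X := fun h => hzTG (hNz ▸ h.2)
  have hNs : N s = 1 := by
    show s * ((o : G) * s * (o : G)⁻¹) * ((o : G) * ((o : G) * s * (o : G)⁻¹) * (o : G)⁻¹) = 1
    rw [← hyt, ← hudef, hstu]
  have hNt : N t = 1 := by
    show t * u * ((o : G) * u * (o : G)⁻¹) = 1
    have h3 : (o : G) * u * (o : G)⁻¹ = s := by
      calc _ = ((o : G) * (o : G) * (o : G)) * s * ((o : G) * (o : G) * (o : G))⁻¹ := by rw [hudef, hyt]; group
        _ = s := by rw [hO]; group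
    rw [h3, hu, ← mul_assoc, ← hst, mul_assoc s t t, htt, mul_one, hss]
  have hsX : s ∈ X := ⟨hsP', hNs ▸ TG.one_mem⟩
  have htX : t ∈ X := ⟨htP', hNt ▸ TG.one_mem⟩
  have hXcard : Nat.card ↥X = 64 := by
    have hle : X ≤ P' := fun v hv => hv.1
    have hi : (X.subgroupOf P').index = 2 := by
      refine index_eq_two_iff.2 ⟨⟨z, hzP'⟩, fun v => ?_⟩
      have hmulz : N ((v : G) * z) = N (v : G) * z := by rw [hNmul _ v.2 z hzP', hNz]
      have hc : N (v : G) ∈ centralizer ({z} : Set G) := mem_centralizer_singleton_iff.2 (hP'z _ (hNP _ v.2))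
      by_cases hmem : (v : G) ∈ X
      · exact Or.inr ⟨hmem, fun h => hzX (by simpa using mul_mem (inv_mem hmem) (show (v : G) * z ∈ X from h))⟩
      · refine Or.inl ⟨show (v : G) * z ∈ X from ⟨mul_mem v.2 hzP', ?_⟩, hmem⟩
        rw [hmulz]
        have hN : (⟨N (v : G), hc⟩ : (centralizer ({z} : Set G))) ∉ T := fun h => hmem ⟨v.2, _, h, rfl⟩
        have hzO : (zQ : (centralizer ({z} : Set G))) ∈ centralizer ({o} : Set (centralizer ({z} : Set G))) := mem_centralizer_singleton_iff.2 (Subtype.ext (by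
          show ((zQ : (centralizer ({z} : Set G))) : G) * (o : G) = (o : G) * ((zQ : (centralizer ({z} : Set G))) : G)
          rw [hzQ, hoz]))
        have h2 := (mul_mem_iff_of_index_two hidx (a := (⟨_, hNC _ v.2 hc⟩ : ↥(centralizer ({o} : Set (centralizer ({z} : Set G))))))
          (b := ⟨_, hzO⟩)).2 (iff_of_false hN hzT)
        exact ⟨_, h2, by show N (v : G) * ((zQ : (centralizer ({z} : Set G))) : G) = _; rw [hzQ]⟩
    have h := (X.subgroupOf P').card_mul_index
    rw [hi, hP'card, Nat.card_congr (subgroupOfEquivOfLe hle).toEquiv] at h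
    omega
  -- the group acting
  let S : Subgroup (centralizer ({z} : Set G)) :=
    { carrier := {w | w * o = o * w ∧ (w : G) * s = s * (w : G)}
      one_mem' := by simp
      mul_mem' := by
        rintro v w ⟨v1, v2⟩ ⟨w1, w2⟩
        exact ⟨(show Commute v o from v1).mul_left w1, (show Commute (v : G) s from v2).mul_left w2⟩
      inv_mem' := by
        rintro v ⟨v1, v2⟩
        exact ⟨(show Commute v o from v1).inv_left, (show Commute (v : G) s from v2).inv_left⟩ }
  have hSo : ∀ w ∈ S, (w : G) * (o : G) = (o : G) * (w : G) := fun w hw => congrArg Subtype.val hw.1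
  have hSt : ∀ w ∈ S, (w : G) * t = t * (w : G) := fun w hw => by
    rw [hyt]
    exact ((show Commute (w : G) (o : G) from hSo w hw).mul_right (show Commute (w : G) s from hw.2)).mul_right
      (show Commute (w : G) (o : G) from hSo w hw).inv_right
  have hSN : ∀ w ∈ S, ∀ v ∈ X, (w : G) * v * (w : G)⁻¹ ∈ X := by
    intro w hw v hv
    have hP : (w : G) * v * (w : G)⁻¹ ∈ P' := by
      refine ⟨hQs_eq ?_ (hQs_conj (a := (w : G)) hv.1.1), hQs_eq ?_ (hQs_conj (a := (w : G)) hv.1.2)⟩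
      · calc (w : G) * g * z * ((w : G) * g)⁻¹ = (w : G) * (g * z * g⁻¹) * (w : G)⁻¹ := by group
          _ = g * z * g⁻¹ := by rw [hgz, hw.2, mul_inv_cancel_right]
      · calc (w : G) * ((o : G) * g) * z * ((w : G) * ((o : G) * g))⁻¹ =
            (w : G) * (((o : G) * g) * z * ((o : G) * g)⁻¹) * (w : G)⁻¹ := by group
          _ = _ := by rw [hogz, hSt w hw, mul_inv_cancel_right]
    refine ⟨hP, ?_⟩
    obtain ⟨a, ha, hav⟩ := hv.2
    have haO := hT ha
    have hwO : w ∈ centralizer ({o} : Set (centralizer ({z} : Set G))) := mem_centralizer_singleton_iff.2 hw.1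
    have hn2 := (normal_of_index_eq_two hidx).conj_mem ⟨a, haO⟩ ha ⟨w, hwO⟩
    refine ⟨_, hn2, ?_⟩
    show (w : G) * (a : G) * (w : G)⁻¹ = _
    rw [show (a : G) = N v from hav]
    show (w : G) * (v * ((o : G) * v * (o : G)⁻¹) * ((o : G) * ((o : G) * v * (o : G)⁻¹) * (o : G)⁻¹)) * (w : G)⁻¹ = _
    have e1 : ∀ a : G, (w : G) * ((o : G) * a * (o : G)⁻¹) * (w : G)⁻¹ = (o : G) * ((w : G) * a * (w : G)⁻¹) * (o : G)⁻¹ := by
      intro a
      calc _ = ((w : G) * (o : G)) * a * ((w : G) * (o : G))⁻¹ := by group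
        _ = _ := by rw [hSo w hw]; group
    calc _ = ((w : G) * v * (w : G)⁻¹) * ((w : G) * ((o : G) * v * (o : G)⁻¹) * (w : G)⁻¹) *
          ((w : G) * ((o : G) * ((o : G) * v * (o : G)⁻¹) * (o : G)⁻¹) * (w : G)⁻¹) := by group
      _ = _ := by rw [e1, e1, e1]
  -- its image
  set Y := MulAction.stabilizer ((centralizer ({z} : Set G)) ⧸ Q) (π x) ⊓ M
  have hmkO : ∀ w : (centralizer ({z} : Set G)), w * o = o * w → QuotientGroup.mk' Q w ∈ M := by
    intro w hw
    by_contra hM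
    have h1 := m.core.conj_n_outer c.cen hM
    rw [← hon, ← map_mul, hw, map_mul, hon] at h1
    exact m.core.n_ne (mul_eq_left.1 (mul_right_cancel h1.symm))
  let θ0 : ↥S →* ↥Y := ((QuotientGroup.mk' Q).comp S.subtype).codRestrict _ fun w =>
    ⟨c.smul_of_comm w.2.2, hmkO _ w.2.1⟩
  have hθ0 : Function.Surjective θ0 := by
    intro k0
    obtain ⟨w, hw, hwo⟩ := m.lift_commute hF ho3 hon k0.2.2
    have hwo' : (w : G) * (o : G) = (o : G) * (w : G) := congrArg Subtype.val hwo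
    refine ⟨⟨w, hwo, ?_⟩, Subtype.ext hw⟩
    rcases c.conj_cases (a := x) (show QuotientGroup.mk' Q w • π x = π x by rw [hw]; exact k0.2.1) with e | e
    · exact mul_inv_eq_iff_eq_mul.1 e
    · exfalso
      have step : ∀ v v' : G, (w : G) * v * (w : G)⁻¹ = v' →
          (w : G) * ((o : G) * v * (o : G)⁻¹) * (w : G)⁻¹ = (o : G) * v' * (o : G)⁻¹ := by
        intro v v' hv'
        calc _ = ((w : G) * (o : G)) * v * ((w : G) * (o : G))⁻¹ := by group
          _ = (o : G) * ((w : G) * v * (w : G)⁻¹) * (o : G)⁻¹ := by rw [hwo']; group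
          _ = _ := by rw [hv']
      have e' : (w : G) * s * (w : G)⁻¹ = s * z := e
      have e2 : (w : G) * t * (w : G)⁻¹ = t * z := by
        rw [hyt, step s _ e']
        calc (o : G) * (s * z) * (o : G)⁻¹ = (o : G) * s * (z * (o : G)⁻¹) := by group
          _ = (o : G) * s * ((o : G)⁻¹ * z) := by rw [show z * (o : G)⁻¹ = (o : G)⁻¹ * z from (show Commute (o : G) z from hoz).inv_left.eq.symm]
          _ = _ := by group
      have e3 : (w : G) * u * (w : G)⁻¹ = u * z := by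
        rw [hudef, step t _ e2]
        calc (o : G) * (t * z) * (o : G)⁻¹ = (o : G) * t * (z * (o : G)⁻¹) := by group
          _ = (o : G) * t * ((o : G)⁻¹ * z) := by rw [show z * (o : G)⁻¹ = (o : G)⁻¹ * z from (show Commute (o : G) z from hoz).inv_left.eq.symm]
          _ = _ := by group
      have htz : t * z = z * t := c.comm_z (y : (centralizer ({z} : Set G)))
      have e4 : (w : G) * u * (w : G)⁻¹ = u := by
        rw [hu]
        calc (w : G) * (s * t) * (w : G)⁻¹ = ((w : G) * s * (w : G)⁻¹) * ((w : G) * t * (w : G)⁻¹) := by group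
          _ = s * ((z * t) * z) := by rw [e', e2]; group
          _ = s * t := by rw [← htz, mul_assoc t z z, hzz, mul_one]
      rw [e3] at e4
      exact c.hp.z_ne_one (mul_eq_left.1 e4)
  obtain ⟨f2, hf2, hf2k⟩ := m.core.exists_quotient c.cen c.dat
  obtain ⟨f, hf, hfker⟩ := m.core.stab_quotient c.cen c.dat
  -- the hyperplane
  let X' : Subgroup G := X.map (MulAut.conj k⁻¹).toMonoidHom
  have hX'mem : ∀ v, v ∈ X' ↔ k * v * k⁻¹ ∈ X := fun v => by
    constructor
    · rintro ⟨a, ha, rfl⟩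
      show k * (k⁻¹ * a * (k⁻¹)⁻¹) * k⁻¹ ∈ X
      rwa [show k * (k⁻¹ * a * (k⁻¹)⁻¹) * k⁻¹ = a by group]
    · intro h
      exact ⟨_, h, by show k⁻¹ * (k * v * k⁻¹) * (k⁻¹)⁻¹ = v; group⟩
  let XQ : Subgroup ↥Q := X'.comap ((centralizer ({z} : Set G)).subtype.comp Q.subtype)
  have hXQ : ∀ a : ↥Q, a ∈ XQ ↔ k * val a * k⁻¹ ∈ X := fun a => hX'mem _
  have hzQX : zQ ∈ XQ := (hXQ _).2 (by rw [show val zQ = z from hzQ, hkz]; exact hsX)
  have hxX : x ∈ XQ := (hXQ _).2 (by rw [← hsdef, hks]; exact htX)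
  obtain ⟨W, hW, -, hWc⟩ := m.card_fibre hF hzQ XQ
  have hXQcard : Nat.card ↥XQ = 64 := by
    have hrg : X' ≤ ((centralizer ({z} : Set G)).subtype.comp Q.subtype).range := by
      intro v hv
      have := hback _ ((hX'mem v).1 hv).1
      rw [show k⁻¹ * (k * v * k⁻¹) * k = v by group] at this
      obtain ⟨a, ha, rfl⟩ := this.1
      exact ⟨⟨a, ha⟩, rfl⟩
    have hc : Nat.card ↥(XQ.map ((centralizer ({z} : Set G)).subtype.comp Q.subtype)) = Nat.card ↥XQ :=
      card_map_of_injective c.inj_val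
    rw [← hc, map_comap_eq_self hrg, card_map_of_injective (MulEquiv.injective _), hXcard]
  have hW32 : Nat.card ↥W = 32 := by have := hWc hzQX; omega
  have hWD : W ≤ D := fun v hv => by
    obtain ⟨a, ha, rfl⟩ := (hW v).1 hv
    have := hback _ ((hXQ a).1 ha).1
    rw [show k⁻¹ * (k * val a * k⁻¹) * k = val a by group] at this
    exact (c.hD _).2 ⟨a, this.2, rfl⟩
  obtain ⟨e, heE, he1, hefix, heuniq⟩ :=
    m.core.hyperplane_elt c.cen c.dat hWD ((hW _).2 ⟨x, hxX, rfl⟩) hW32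
  -- the transported group
  have hσmem : ∀ w : ↥S, k⁻¹ * ((w : (centralizer ({z} : Set G))) : G) * k ∈ centralizer ({z} : Set G) ∧
      (k⁻¹ * ((w : (centralizer ({z} : Set G))) : G) * k) * s = s * (k⁻¹ * ((w : (centralizer ({z} : Set G))) : G) * k) := by
    intro w
    constructor
    · rw [mem_centralizer_singleton_iff]
      calc k⁻¹ * ((w : (centralizer ({z} : Set G))) : G) * k * z = k⁻¹ * (((w : (centralizer ({z} : Set G))) : G) * (k * z * k⁻¹)) * k := by group
        _ = z * (k⁻¹ * ((w : (centralizer ({z} : Set G))) : G) * k) := by rw [hkz, w.2.2, ← hkz]; group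
    · calc k⁻¹ * ((w : (centralizer ({z} : Set G))) : G) * k * s = k⁻¹ * (((w : (centralizer ({z} : Set G))) : G) * (k * s * k⁻¹)) * k := by group
        _ = _ := by rw [hks, hSt _ w.2, ← hks]; group
  let σ : ↥S →* (centralizer ({z} : Set G)) := MonoidHom.mk' (fun w => ⟨_, (hσmem w).1⟩) fun v w => Subtype.ext (by
    show k⁻¹ * (((v : (centralizer ({z} : Set G))) : G) * ((w : (centralizer ({z} : Set G))) : G)) * k = k⁻¹ * ((v : (centralizer ({z} : Set G))) : G) * k * (k⁻¹ * ((w : (centralizer ({z} : Set G))) : G) * k)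
    group)
  let σb : ↥S →* ↥(MulAction.stabilizer ((centralizer ({z} : Set G)) ⧸ Q) (π x)) :=
    ((QuotientGroup.mk' Q).comp σ).codRestrict _ fun w => c.smul_of_comm (w := σ w) (a := x) (hσmem w).2
  have hWinv : ∀ (w : ↥S), ∀ v ∈ W, (σb w : (centralizer ({z} : Set G)) ⧸ Q) • v ∈ W := by
    intro w v hv
    obtain ⟨a, ha, rfl⟩ := (hW v).1 hv
    obtain ⟨a', h1, h2⟩ := c.pi_conj (σ w) a
    refine (hW _).2 ⟨a', (hXQ _).2 ?_, h2⟩
    have := hSN _ w.2 _ ((hXQ a).1 ha)
    rw [h1]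
    show k * (k⁻¹ * ((w : (centralizer ({z} : Set G))) : G) * k * val a * (k⁻¹ * ((w : (centralizer ({z} : Set G))) : G) * k)⁻¹) * k⁻¹ ∈ X
    rwa [show k * (k⁻¹ * ((w : (centralizer ({z} : Set G))) : G) * k * val a * (k⁻¹ * ((w : (centralizer ({z} : Set G))) : G) * k)⁻¹) * k⁻¹ =
      ((w : (centralizer ({z} : Set G))) : G) * (k * val a * k⁻¹) * ((w : (centralizer ({z} : Set G))) : G)⁻¹ by group]
  have hcomm : ∀ w : ↥S, (σb w : (centralizer ({z} : Set G)) ⧸ Q) * e = e * (σb w : (centralizer ({z} : Set G)) ⧸ Q) := by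
    intro w
    refine mul_inv_eq_iff_eq_mul.1 (heuniq _ (c.dat.normal _ (σb w).2 e heE) ?_ fun d hd => ?_)
    · intro h
      exact he1 (by rwa [mul_inv_eq_one, mul_eq_left] at h)
    · have h0 := hWinv w⁻¹ d hd
      rw [map_inv, Subgroup.coe_inv] at h0
      rw [mul_smul, mul_smul, hefix _ h0, smul_inv_smul]
  -- the image is everything modulo `E`
  let θ : ↥S →* ↥(alternatingGroup (Fin 6)) := f.comp σb
  have hEcomm : ∀ a ∈ E, a * e = e * a := fun a ha =>
    congrArg Subtype.val (c.dat.elem.1.is_comm.comm (⟨a, ha⟩ : ↥E) ⟨e, heE⟩)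
  have hθ5 : ∀ w : ↥S, orderOf w = 5 → θ w ≠ 1 := by
    intro w hw hθw
    have hE : (σb w : (centralizer ({z} : Set G)) ⧸ Q) ∈ E := by
      have : σb w ∈ f.ker := MonoidHom.mem_ker.2 hθw
      rwa [hfker] at this
    have h2 : σ w * σ w ∈ Q := by
      rw [← QuotientGroup.eq_one_iff]
      show QuotientGroup.mk' Q (σ w * σ w) = 1
      rw [map_mul, ← pow_two]
      exact c.dat.elem.2 _ hE
    have h := pow_card_eq_one' (x := (⟨_, h2⟩ : ↥Q))
    rw [hF.1.2.2.2.1] at h
    have h' : (σ w * σ w) ^ (2 ^ 13) = 1 := congrArg Subtype.val h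
    rw [← pow_two, ← pow_mul, ← map_pow] at h'
    have hinj : Function.Injective σ := fun a b e => by
      have e' : k⁻¹ * ((a : (centralizer ({z} : Set G))) : G) * k = k⁻¹ * ((b : (centralizer ({z} : Set G))) : G) * k := congrArg Subtype.val e
      exact Subtype.ext (Subtype.ext (mul_left_cancel (mul_right_cancel e')))
    have h5 := orderOf_dvd_of_pow_eq_one (hinj (h'.trans (map_one σ).symm))
    rw [hw] at h5
    norm_num at h5
  have hrange : θ.range = ⊤ := by
    haveI : IsSimpleGroup ↥(alternatingGroup (Fin 6)) := alternatingGroup.isSimpleGroup (by simp)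
    let θa : ↥S →* ↥(alternatingGroup (Fin 6)) := f2.comp θ0
    have hθa : Function.Surjective θa := hf2.comp hθ0
    have h360 : Nat.card ↥(alternatingGroup (Fin 6)) = 360 := by
      rw [Nat.card_eq_fintype_card]; decide +kernel
    have hle : θ.ker ≤ θa.ker := by
      have hb := ((MonoidHom.normal_ker θ).map θa hθa).eq_bot_or_eq_top.resolve_right fun e5 => by
        haveI := Fact.mk Nat.prime_five
        have h5 : 5 ∣ Nat.card ↥θ.ker := by
          refine dvd_trans ?_ (Subgroup.card_map_dvd θ.ker θa)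
          rw [e5, card_top, h360]; norm_num
        obtain ⟨w, hw⟩ := exists_prime_orderOf_dvd_card' (G := ↥θ.ker) 5 h5
        exact hθ5 _ (by rw [Subgroup.orderOf_coe, hw]) (MonoidHom.mem_ker.1 w.2)
      intro w hw
      exact MonoidHom.mem_ker.2 (Subgroup.mem_bot.1 (hb ▸ mem_map_of_mem θa hw))
    have h1 := index_dvd_of_le hle
    rw [index_ker, index_ker, MonoidHom.range_eq_top.2 hθa, card_top, h360] at h1
    refine eq_top_of_le_card _ ?_
    rw [h360]
    exact Nat.le_of_dvd Nat.card_pos h1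
  have hcentral : ∀ k0 ∈ MulAction.stabilizer ((centralizer ({z} : Set G)) ⧸ Q) (π x), k0 * e = e * k0 := by
    intro k0 hk0
    obtain ⟨w, hw⟩ : f ⟨k0, hk0⟩ ∈ θ.range := hrange ▸ mem_top _
    have hk : (σb w)⁻¹ * ⟨k0, hk0⟩ ∈ f.ker := MonoidHom.mem_ker.2 (by
      rw [map_mul, map_inv, show f (σb w) = f ⟨k0, hk0⟩ from hw, inv_mul_cancel])
    rw [hfker] at hk
    have hk' : (σb w : (centralizer ({z} : Set G)) ⧸ Q)⁻¹ * k0 ∈ E := hk
    calc k0 * e = (σb w : (centralizer ({z} : Set G)) ⧸ Q) * (((σb w : (centralizer ({z} : Set G)) ⧸ Q)⁻¹ * k0) * e) := by group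
      _ = ((σb w : (centralizer ({z} : Set G)) ⧸ Q) * e) * ((σb w : (centralizer ({z} : Set G)) ⧸ Q)⁻¹ * k0) := by rw [hEcomm _ hk']; group
      _ = e * k0 := by rw [hcomm w]; group
  have he2 : e * e = 1 := by rw [← pow_two]; exact c.dat.elem.2 e heE
  by_cases heM : e ∈ M
  · obtain ⟨y5, hy5, -, hall⟩ := m.core.exists_five c.cen c.dat
    choose pre hpre hpre' using fun a : ↥(E ⊓ M) => hall a a.2
    let Φ : ↥(E ⊓ M) → ↥(E ⊓ M) := fun a => ⟨pre a, hpre a⟩
    have hΦ : Function.Injective Φ := fun a b h => Subtype.ext (by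
      rw [← hpre' a, ← hpre' b, show pre a = pre b from congrArg Subtype.val h])
    obtain ⟨a, ha⟩ := (Finite.surjective_of_injective hΦ) ⟨e, heE, heM⟩
    obtain ⟨a', ha'⟩ := (Finite.surjective_of_injective hΦ) ⟨1, one_mem _⟩
    have e1 : (a : (centralizer ({z} : Set G)) ⧸ Q) = 1 := by
      rw [← hpre' a, show pre a = e from congrArg Subtype.val ha, hcentral y5 hy5.1]
      group
    have e2 : (a' : (centralizer ({z} : Set G)) ⧸ Q) = 1 := by
      rw [← hpre' a', show pre a' = 1 from congrArg Subtype.val ha']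
      group
    have haa : a = a' := Subtype.ext (e1.trans e2.symm)
    subst haa
    exact he1 (congrArg Subtype.val (ha.symm.trans ha'))
  · obtain ⟨A, hAle, hA, hA16, hAc⟩ := m.core.exists_other_in_stab c.cen c.dat
    exact m.core.no_central_outer c.cen c.dat (hAle.trans inf_le_right) hA hA16 hAc heM he2 fun a ha =>
      (hcentral a (hAle ha).1).symm

end CfsgLib.LargeFischer.SixCover
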