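import Cfsg.Agent.Lib.LargeFischer.SixCover.Nonsplit
import Cfsg.Prelude.Def_CaseTheorems

/-!
# Groups of large Fischer type: the centraliser of `o` is a six-fold cover of `U₄(3)`
-/

set_option autoImplicit false
set_option linter.unusedSectionVars false

namespace CfsgLib.LargeFischer.SixCover

open Subgroup QuadraticMap
open CfsgLib.Schur.Tails.UFour (H4)

variable {G : Type*} [Group G] [Finite G] {z : G} {Q : Subgroup (centralizer ({z} : Set G))} [Q.Normal]
  {V : Type*} [AddCommGroup V] [Module (ZMod 2) V] [DistribMulAction ((centralizer ({z} : Set G)) ⧸ Q) V] [Finite V]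
  {q : QuadraticForm (ZMod 2) V} {π : ↥Q → V} {n : (centralizer ({z} : Set G)) ⧸ Q}
  {M : Subgroup ((centralizer ({z} : Set G)) ⧸ Q)} {φ : ↥M →* ↥H4}

/-- The shape of the centraliser of an element of order three over `n`. -/
theorem centralizer_shape (hF : Cfsg.IsOfLargeFischerTypeAt z Q) (m : Model z Q q π n M φ) {o : (centralizer ({z} : Set G))}
    (ho3 : o ^ 3 = 1) (hon : QuotientGroup.mk' Q o = n) (L : Subgroup (centralizer ({z} : Set G)))
    (hL : L = centralizer ({o} : Set (centralizer ({z} : Set G)))) :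
    Cfsg.IsQuasisimple ↥L ∧ IsCyclic ↥(center ↥L) ∧ Nat.card ↥(center ↥L) = 6 ∧
      Nonempty (↥L ⧸ center ↥L ≃* ↥H4) := by
  classical
  obtain ⟨zQ, hzQ, hzπ, hzz, hzc, hz1⟩ := m.exists_zQ hF
  obtain ⟨x0, hx0, hne0⟩ := m.exists_central hF
  have hcen := m.central_of_isConj hF hx0 hne0
  obtain ⟨hs0, E, D, hd⟩ := id hcen
  have hmem : ∀ w : (centralizer ({z} : Set G)), w ∈ L ↔ w * o = o * w := fun w => by rw [hL]; exact mem_centralizer_singleton_iff
  have hM : ∀ w : ↥L, QuotientGroup.mk' Q (w : (centralizer ({z} : Set G))) ∈ M := by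
    intro w
    by_contra h
    have h1 := m.core.conj_n_outer hcen h
    rw [← hon, ← map_mul, (hmem _).1 w.2, map_mul, hon] at h1
    exact m.core.n_ne (mul_eq_left.1 (mul_right_cancel h1.symm))
  let p : ↥L →* ↥M := ((QuotientGroup.mk' Q).comp L.subtype).codRestrict M hM
  have hp : Function.Surjective p := fun k => by
    obtain ⟨w, hw, hwo⟩ := m.lift_commute hF ho3 hon k.2
    exact ⟨⟨w, (hmem w).2 hwo⟩, Subtype.ext hw⟩
  have hzL : (zQ : (centralizer ({z} : Set G))) ∈ L := (hmem _).2 (hzc o).symm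
  have hoL : o ∈ L := (hmem _).2 rfl
  have hker : ∀ w : ↥L, p w = 1 ↔ w = 1 ∨ w = ⟨_, hzL⟩ := by
    intro w
    constructor
    · intro h
      have hwQ : (w : (centralizer ({z} : Set G))) ∈ Q := (QuotientGroup.eq_one_iff _).1 (congrArg Subtype.val h)
      have h1 := m.fixed_of_comm hF (c := o) (u := ⟨_, hwQ⟩) ((hmem _).1 w.2).symm
      rw [show (QuotientGroup.mk o : (centralizer ({z} : Set G)) ⧸ Q) = n from hon] at h1
      rcases m.eq_one_or_z hF hzQ (x := ⟨_, hwQ⟩) (m.core.fixN_eq_zero hcen h1) with e | e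
      · exact .inl (Subtype.ext e)
      · exact .inr (Subtype.ext e)
    · rintro (rfl | rfl)
      · exact map_one p
      · exact Subtype.ext ((QuotientGroup.eq_one_iff _).2 zQ.2)
  -- perfection
  have hperf : commutator ↥L = ⊤ := by
    haveI : (commutator ↥L).Normal := inferInstance
    have hmap : (commutator ↥L).map p = ⊤ := by
      rw [map_commutator_eq, MonoidHom.range_eq_top.2 hp, ← commutator_def]
      exact m.core.M_perfect hcen hd
    by_contra hne
    have hcov : ∀ w : ↥L, w ∈ commutator ↥L ∨ w * ⟨_, hzL⟩ ∈ commutator ↥L := by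
      intro w
      obtain ⟨v, hv, hvw⟩ : p w ∈ (commutator ↥L).map p := hmap ▸ mem_top _
      rcases (hker (v⁻¹ * w)).1 (by rw [map_mul, map_inv, hvw, inv_mul_cancel]) with e | e
      · exact .inl (inv_mul_eq_one.1 e ▸ hv)
      · refine .inr ?_
        have hz2 : (⟨_, hzL⟩ : ↥L) * ⟨_, hzL⟩ = 1 := Subtype.ext (show (zQ : (centralizer ({z} : Set G))) * (zQ : (centralizer ({z} : Set G))) = 1 from congrArg Subtype.val hzz)
        rw [show w = v * ⟨_, hzL⟩ from by rw [← e, mul_inv_cancel_left], mul_assoc, hz2, mul_one]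
        exact hv
    have hz : (⟨_, hzL⟩ : ↥L) ∉ commutator ↥L := fun hz => hne (eq_top_iff.2 fun w _ =>
      (hcov w).elim id fun h => by
        have := mul_mem h (inv_mem hz)
        rwa [mul_inv_cancel_right] at this)
    have hi : (commutator ↥L).index = 2 := index_eq_two_iff.2 ⟨⟨_, hzL⟩, fun w => by
      rcases hcov w with h | h
      · exact Or.inr ⟨h, fun h' => hz (by simpa using mul_mem (inv_mem h) h')⟩
      · exact Or.inl ⟨h, fun h' => hz (by simpa using mul_mem (inv_mem h') h)⟩⟩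
    subst hL
    have h := z_mem_index_two hF m ho3 hon hzQ (T := (commutator ↥(centralizer ({o} : Set (centralizer ({z} : Set G))))).map (centralizer ({o} : Set (centralizer ({z} : Set G)))).subtype)
      (map_subtype_le _) (by
        rw [subgroupOf, comap_map_eq_self_of_injective (subtype_injective _)]; exact hi)
    obtain ⟨w, hw, hwe⟩ := h
    have he : (⟨_, hzL⟩ : ↥(centralizer ({o} : Set (centralizer ({z} : Set G))))) = w := Subtype.ext hwe.symm
    exact hz (he ▸ hw)
  -- the map onto the simple group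
  let ψ : ↥L →* ↥H4 := φ.comp p
  have hψ : Function.Surjective ψ := m.core.surj.comp hp
  haveI := h4_simple
  have hH4 : ∀ σ : ↥H4, (∀ τ, σ * τ = τ * σ) → σ = 1 := by
    intro σ hσ
    have hmemC : σ ∈ center ↥H4 := mem_center_iff.2 fun τ => (hσ τ).symm
    rcases (Subgroup.Normal.eq_bot_or_eq_top (H := center ↥H4) inferInstance) with e | e
    · rwa [e, mem_bot] at hmemC
    · exfalso
      letI : CommGroup ↥H4 :=
        { (inferInstance : Group ↥H4) with mul_comm := fun a b => (mem_center_iff.1 (e ▸ mem_top b) a) }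
      have hp := IsSimpleGroup.prime_card (α := ↥H4)
      rw [CfsgLib.Schur.Tails.UFour.card_H4] at hp
      exact absurd hp (by norm_num)
  set zo : ↥L := ⟨_, hzL⟩ * ⟨o, hoL⟩ with hzo
  have hord : orderOf zo = 6 := by
    have h2 : orderOf (⟨_, hzL⟩ : ↥L) = 2 := by
      refine orderOf_eq_prime ?_ fun h => hz1 (congrArg Subtype.val h)
      rw [pow_two]
      exact Subtype.ext (show (zQ : (centralizer ({z} : Set G))) * (zQ : (centralizer ({z} : Set G))) = 1 from congrArg Subtype.val hzz)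
    have h3 : orderOf (⟨o, hoL⟩ : ↥L) = 3 := by
      haveI := Fact.mk Nat.prime_three
      refine orderOf_eq_prime (Subtype.ext ho3) fun h => m.core.n_ne ?_
      rw [← hon, show o = 1 from congrArg Subtype.val h, map_one]
    rw [hzo, Commute.orderOf_mul_eq_mul_orderOf_of_coprime (show Commute (⟨_, hzL⟩ : ↥L) ⟨o, hoL⟩ from
      Subtype.ext (hzc o).symm) (by rw [h2, h3]; norm_num), h2, h3]
  have hzcen : (⟨_, hzL⟩ : ↥L) ∈ center ↥L := mem_center_iff.2 fun w => Subtype.ext (hzc _)
  have hocen : (⟨o, hoL⟩ : ↥L) ∈ center ↥L := mem_center_iff.2 fun w => Subtype.ext ((hmem _).1 w.2)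
  have hker' : ψ.ker = center ↥L := by
    refine le_antisymm (fun w hw => ?_) fun w hw => MonoidHom.mem_ker.2 (hH4 _ fun τ => ?_)
    · have hk : (p w : (centralizer ({z} : Set G)) ⧸ Q) ∈ zpowers n := (m.core.ker _).1 hw
      obtain ⟨j, hj⟩ := mem_zpowers_iff.1 hk
      have h1 : p (w * (⟨o, hoL⟩ ^ j)⁻¹) = 1 := by
        refine Subtype.ext ?_
        rw [map_mul, map_inv, map_zpow, Subgroup.coe_mul, Subgroup.coe_inv, SubgroupClass.coe_zpow,
          show ((p ⟨o, hoL⟩ : ↥M) : (centralizer ({z} : Set G)) ⧸ Q) = n from hon, hj, mul_inv_cancel]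
        rfl
      have h2 : w * (⟨o, hoL⟩ ^ j)⁻¹ ∈ center ↥L := by
        rcases (hker _).1 h1 with e | e <;> rw [e]
        exacts [one_mem _, hzcen]
      simpa using mul_mem h2 (zpow_mem hocen j)
    · obtain ⟨v, rfl⟩ := hψ τ
      rw [← map_mul, ← map_mul, mem_center_iff.1 hw v]
  have hcenter : center ↥L = zpowers zo := by
    refine le_antisymm (fun w hw => ?_) (zpowers_le.2 (mul_mem hzcen hocen))
    have hz3 : zo ^ 3 = (⟨_, hzL⟩ : ↥L) := by
      rw [hzo, (show Commute (⟨_, hzL⟩ : ↥L) ⟨o, hoL⟩ from Subtype.ext (hzc o).symm).mul_pow,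
        show (⟨o, hoL⟩ : ↥L) ^ 3 = 1 from Subtype.ext ho3, mul_one, pow_succ, pow_two,
        show (⟨_, hzL⟩ : ↥L) * ⟨_, hzL⟩ = 1 from Subtype.ext (show (zQ : (centralizer ({z} : Set G))) * (zQ : (centralizer ({z} : Set G))) = 1 from congrArg Subtype.val hzz), one_mul]
    have hzmem : (⟨_, hzL⟩ : ↥L) ∈ zpowers zo := hz3 ▸ pow_mem (mem_zpowers zo) 3
    have homem : (⟨o, hoL⟩ : ↥L) ∈ zpowers zo := by
      have := mul_mem (inv_mem hzmem) (mem_zpowers zo)
      rwa [hzo, inv_mul_cancel_left] at this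
    rw [← hker'] at hw
    have hk : (p w : (centralizer ({z} : Set G)) ⧸ Q) ∈ zpowers n := (m.core.ker _).1 hw
    obtain ⟨j, hj⟩ := mem_zpowers_iff.1 hk
    have h1 : p (w * (⟨o, hoL⟩ ^ j)⁻¹) = 1 := by
      refine Subtype.ext ?_
      rw [map_mul, map_inv, map_zpow, Subgroup.coe_mul, Subgroup.coe_inv, SubgroupClass.coe_zpow,
        show ((p ⟨o, hoL⟩ : ↥M) : (centralizer ({z} : Set G)) ⧸ Q) = n from hon, hj, mul_inv_cancel]
      rfl
    have h2 : w * (⟨o, hoL⟩ ^ j)⁻¹ ∈ zpowers zo := by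
      rcases (hker _).1 h1 with e | e <;> rw [e]
      exacts [one_mem _, hzmem]
    simpa using mul_mem h2 (zpow_mem homem j)
  have hquot : Nonempty (↥L ⧸ center ↥L ≃* ↥H4) :=
    ⟨(QuotientGroup.quotientMulEquivOfEq hker'.symm).trans (QuotientGroup.quotientKerEquivOfSurjective ψ hψ)⟩
  refine ⟨⟨⟨hperf⟩, ?_⟩, ?_, ?_, hquot⟩
  · obtain ⟨e⟩ := hquot
    haveI : Nontrivial (↥L ⧸ center ↥L) := e.toEquiv.nontrivial
    exact IsSimpleGroup.isSimpleGroup_of_surjective e.symm.toMonoidHom e.symm.surjective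
  · rw [hcenter]
    exact isCyclic_zpowers zo
  · rw [hcenter, Nat.card_zpowers, hord]

end CfsgLib.LargeFischer.SixCover
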